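import Cfsg.Agent.CosetEnum.Basic

/-! Certificate of a coset enumeration (generated data, owner: helper12). -/

set_option autoImplicit false
set_option maxRecDepth 1000000

namespace Cfsg.Agent.CosetEnum.HeCK2

noncomputable def tab : T := .l 0 0xb0000010000cfffffffffff0000010000d0000000000afffffffffff000000000090000000000dfffffffffff0000000000c00000000008fffffffffff000000000070000000000bfffffffffff0000000000a00000000006fffffffffff0000000000500000000009fffffffffff0000000000800000000004fffffffffff0000000000300000000007fffffffffff0000000000600000000002fffffffffff0000000000100000000005fffffffffff0000000000400000000000fffffffffff0000000000000000000003fffffffffff0000000000200000000001fffffffffff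

def lw : WT := .e

def L : LL := .cons 1 2 (.e) (.e) ( .cons 2 1 (.l [1,1,1,1,1,1,1,1,1,1,1,1,1] []) (.e) ( .nil ))

def iv : List (Nat × Nat) := [(1, 2)]

def RL : List (List Nat × Nat) := [([1], 14)]

def subs : List (List Nat) := []

noncomputable def P : Par := ⟨tab, 132, 5444517870735015415413993718908291383295, 14, icG 2 iv, lw⟩

end Cfsg.Agent.CosetEnum.HeCK2
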